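import Groth.Agent.Lib.Helper75.Fitting10
import Groth.Agent.Lib.Helper75.Fitting12
import Groth.Agent.Lib.Helper75.Fitting15

/-! A finite module over a Noetherian local ring of characteristic `p` isomorphic to its
Frobenius pullback is free (via Fitting ideals). -/

open Groth.Agent.Lib.Helper75.Fitting TensorProduct

namespace Groth.Agent.Lib.Helper39.Frob

universe u

theorem fitt_extendScalars {R S : Type u} [CommRing R] [CommRing S] (f : R →+* S)
    (M : Type u) [AddCommGroup M] [Module R M] [Module.Finite R M] (k : ℕ) :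
    Fitt.ideal S ((ModuleCat.extendScalars f).obj (ModuleCat.of R M)) k =
      (Fitt.ideal R M k).map f := by
  letI := f.toAlgebra
  exact fitt_baseChange (R := R) (R' := S) (M := M) k

/-- An ideal of a Noetherian local ring of characteristic `p` equal to its Frobenius power is
trivial. -/
theorem eq_top_or_eq_bot_of_eq_map_frobenius (p : ℕ) [Fact p.Prime] (R : Type u) [CommRing R]
    [IsLocalRing R] [IsNoetherianRing R] [CharP R p] (I : Ideal R)
    (h : I = I.map (frobenius R p)) : I = ⊤ ∨ I = ⊥ := by
  by_cases htop : I = ⊤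
  · exact Or.inl htop
  · right
    have hIm : I ≤ IsLocalRing.maximalIdeal R := IsLocalRing.le_maximalIdeal htop
    have hle : I ≤ IsLocalRing.maximalIdeal R • I := by
      conv_lhs => rw [h]
      rw [Ideal.map_le_iff_le_comap]
      intro x hx
      rw [Ideal.mem_comap, frobenius_def]
      have hp : p = (p - 1) + 1 := by
        have := (Fact.out : p.Prime).one_lt
        omega
      rw [hp, pow_succ]
      refine Submodule.smul_mem_smul ?_ hx
      have hp1 : p - 1 ≠ 0 := by
        have := (Fact.out : p.Prime).one_lt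
        omega
      exact Ideal.pow_mem_of_mem _ (hIm hx) _ (Nat.pos_of_ne_zero hp1)
    refine Submodule.eq_bot_of_le_smul_of_le_jacobson_bot (IsLocalRing.maximalIdeal R) I
      (IsNoetherian.noetherian I) hle ?_
    rw [IsLocalRing.jacobson_eq_maximalIdeal ⊥ bot_ne_top]

theorem free_of_frobenius_iso (p : ℕ) [Fact p.Prime] (R : Type u) [CommRing R] [IsLocalRing R]
    [IsNoetherianRing R] [CharP R p] (M : Type u) [AddCommGroup M] [Module R M]
    [Module.Finite R M]
    (h : Nonempty ((ModuleCat.extendScalars (frobenius R p)).obj (ModuleCat.of R M) ≅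
      ModuleCat.of R M)) : Module.Free R M := by
  classical
  obtain ⟨iso⟩ := h
  have hfit : ∀ k, Fitt.ideal R M k = (Fitt.ideal R M k).map (frobenius R p) := by
    intro k
    rw [← fitt_extendScalars (frobenius R p) M k]
    exact (fitt_congr iso.toLinearEquiv k).symm
  have htriv : ∀ k, Fitt.ideal R M k = ⊤ ∨ Fitt.ideal R M k = ⊥ := fun k =>
    eq_top_or_eq_bot_of_eq_map_frobenius p R _ (hfit k)
  obtain ⟨n, x, hx⟩ := Module.Finite.exists_fin (R := R) (M := M)
  have hex : ∃ k, Fitt.ideal R M k = ⊤ := ⟨n, (fitt_eq_top_iff_of_isLocalRing n).2 ⟨x, hx⟩⟩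
  obtain ⟨g, hg⟩ := (fitt_eq_top_iff_of_isLocalRing (Nat.find hex)).1 (Nat.find_spec hex)
  exact (free_of_fitt g hg (fun k hk => (htriv k).resolve_left (Nat.find_min hex hk))).1

end Groth.Agent.Lib.Helper39.Frob
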